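import Groth.Agent.UnivOpen.GeomUnibranch

/-!
# Geometrically unibranch local rings and birational integral extensions
-/

set_option autoImplicit false
set_option linter.style.haveILetI false
set_option backward.isDefEq.respectTransparency false
set_option backward.isDefEq.respectTransparency.types false

universe u

namespace Groth.Agent.RadBir5

open IsLocalRing

variable {A C : Type u} [CommRing A] [IsLocalRing A] [CommRing C]

/-- The algebraic form of birationality of an integral extension. -/
structure Bir (φ : A →+* C) : Prop where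
  integral : φ.IsIntegral
  minimal : ∀ Q ∈ minimalPrimes C, Q.comap φ ∈ minimalPrimes A
  surj : ∀ P ∈ minimalPrimes A, ∃ Q ∈ minimalPrimes C, Q.comap φ = P
  inj : ∀ P ∈ minimalPrimes A, ∀ Q Q' : Ideal C, Q.IsPrime → Q'.IsPrime → Q.comap φ = P → Q'.comap φ = P → Q = Q'
  frac : ∀ Q ∈ minimalPrimes C, ∀ c : C, ∃ a s : A, φ s ∉ Q ∧ φ s * c - φ a ∈ Q

/-- Geometric points over the closed point lift at most once. -/
def Radicial (φ : A →+* C) : Prop :=
  ∀ (Ω : Type u) [Field Ω] [IsAlgClosed Ω] (u v : C →+* Ω),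
    u.comp φ = v.comp φ → RingHom.ker (u.comp φ) = maximalIdeal A → u = v

theorem nilradical_mem_minimalPrimes {R : Type u} [CommRing R] (h : IsDomain (CAlg2.red R)) :
    nilradical R ∈ minimalPrimes R ∧ ∀ P ∈ minimalPrimes R, P = nilradical R := by
  have hp : (nilradical R).IsPrime := (Ideal.Quotient.isDomain_iff_prime _).1 h
  exact ⟨⟨⟨hp, bot_le⟩, fun Q hQ _ => nilradical_le_prime Q (H := hQ.1)⟩,
    fun P hP => le_antisymm (hP.2 ⟨hp, bot_le⟩ (nilradical_le_prime P (H := hP.1.1))) (nilradical_le_prime P (H := hP.1.1))⟩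

theorem isDomain_red_of_unique {R : Type u} [CommRing R] {P : Ideal R} (hP : P ∈ minimalPrimes R)
    (h : ∀ P' ∈ minimalPrimes R, P' = P) : nilradical R = P ∧ IsDomain (CAlg2.red R) := by
  have hnil : nilradical R = P := by
    refine le_antisymm (nilradical_le_prime P (H := hP.1.1)) ?_
    rw [nilradical, Submodule.zero_eq_bot, ← Ideal.sInf_minimalPrimes]
    exact le_sInf fun q hq => le_of_eq (h q hq).symm
  exact ⟨hnil, (Ideal.Quotient.isDomain_iff_prime _).2 (hnil ▸ hP.1.1)⟩

theorem nilradical_le_comap (φ : A →+* C) : nilradical A ≤ (nilradical C).comap φ := fun _ ha =>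
  mem_nilradical.2 ((mem_nilradical.1 ha).map φ)

/-- The map of reductions. -/
def redMap (φ : A →+* C) : CAlg2.red A →+* CAlg2.red C :=
  Ideal.quotientMap (nilradical C) φ (nilradical_le_comap φ)

theorem isIntegral_redMap {φ : A →+* C} (h : φ.IsIntegral) : (redMap φ).IsIntegral := by
  intro c
  obtain ⟨c, rfl⟩ := Ideal.Quotient.mk_surjective c
  obtain ⟨p, hp, hc⟩ := h c
  refine ⟨p.map (Ideal.Quotient.mk _), hp.map _, ?_⟩
  rw [Polynomial.eval₂_map, show (redMap φ).comp (Ideal.Quotient.mk (nilradical A)) =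
    (Ideal.Quotient.mk (nilradical C)).comp φ from RingHom.ext fun a => rfl, ← Polynomial.hom_eval₂, hc, map_zero]

theorem injective_redMap {φ : A →+* C} (h : (nilradical C).comap φ = nilradical A) :
    Function.Injective (redMap φ) :=
  Ideal.quotientMap_injective' h.le

/-- Over a geometrically unibranch ring: the extension is local, radicial and geometrically unibranch. -/
theorem of_isGeomUnibranch {φ : A →+* C} (hb : Bir φ) (hA : CAlg2.IsGeomUnibranch A) :
    Radicial φ ∧ ∃ _ : IsLocalRing C, CAlg2.IsGeomUnibranch C := by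
  obtain ⟨hdomA, -, D, _, _, _, _, hn, hinj, hint, hins, hbir⟩ := UnivOpen.GU.of_isGeomUnibranch hA
  haveI := hdomA
  haveI : IsLocalRing (CAlg2.red A) := IsLocalRing.of_surjective' _ Ideal.Quotient.mk_surjective
  obtain ⟨hP, hPu⟩ := nilradical_mem_minimalPrimes hdomA
  obtain ⟨Q, hQ, hQP⟩ := hb.surj _ hP
  have hQu : ∀ Q' ∈ minimalPrimes C, Q' = Q := fun Q' hQ' =>
    hb.inj _ hP Q' Q hQ'.1.1 hQ.1.1 (hPu _ (hb.minimal Q' hQ')) hQP
  obtain ⟨hnil, hdomC⟩ := isDomain_red_of_unique hQ hQu
  haveI := hdomC
  letI : Algebra (CAlg2.red A) (CAlg2.red C) := (redMap φ).toAlgebra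
  haveI : Algebra.IsIntegral (CAlg2.red A) (CAlg2.red C) := ⟨isIntegral_redMap hb.integral⟩
  have hred : Function.Injective (redMap φ) := injective_redMap (hnil ▸ hQP)
  -- embed the reduction of `C` into the normalization
  let K := FractionRing D
  let ιA : CAlg2.red A →+* K := (algebraMap D K).comp (algebraMap (CAlg2.red A) D)
  have hιA : Function.Injective ιA := (IsFractionRing.injective D K).comp hinj
  have hfr : ∀ c : CAlg2.red C, ∃ a s : CAlg2.red A, s ≠ 0 ∧ redMap φ s * c = redMap φ a := fun c => by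
    obtain ⟨c, rfl⟩ := Ideal.Quotient.mk_surjective c
    obtain ⟨a, s, hs, hsc⟩ := hb.frac Q hQ c
    refine ⟨Ideal.Quotient.mk _ a, Ideal.Quotient.mk _ s, fun h0 => hs ?_, ?_⟩
    · rw [← Ideal.mem_comap, hQP]
      exact Ideal.Quotient.eq_zero_iff_mem.1 h0
    · show Ideal.Quotient.mk _ (φ s) * Ideal.Quotient.mk _ c = Ideal.Quotient.mk _ (φ a)
      rw [← map_mul, Ideal.Quotient.eq, hnil]
      exact hsc
  choose na ns hns hsc using hfr
  have hι0 : ∀ {s}, s ≠ 0 → ιA s ≠ 0 := fun hs h0 => hs (hιA (h0.trans (map_zero _).symm))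
  -- the ambient fraction field of the reduction of `C`
  let L := FractionRing (CAlg2.red C)
  let j : FractionRing (CAlg2.red A) →+* L :=
    IsFractionRing.lift (g := (algebraMap (CAlg2.red C) L).comp (redMap φ))
      ((IsFractionRing.injective (CAlg2.red C) L).comp hred)
  let ιF : FractionRing (CAlg2.red A) →+* K := IsFractionRing.lift (g := ιA) hιA
  have hj : ∀ c, ∃ x, j x = algebraMap (CAlg2.red C) L c := fun c => by
    refine ⟨algebraMap _ _ (na c) / algebraMap _ _ (ns c), ?_⟩
    rw [map_div₀, IsFractionRing.lift_algebraMap, IsFractionRing.lift_algebraMap, RingHom.comp_apply,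
      RingHom.comp_apply, div_eq_iff, ← map_mul, mul_comm, hsc c]
    exact (map_ne_zero_iff _ (IsFractionRing.injective (CAlg2.red C) L)).2 ((map_ne_zero_iff _ hred).2 (hns c))
  choose pre hpre using hj
  let e : CAlg2.red C →+* FractionRing (CAlg2.red A) :=
    { toFun := pre
      map_one' := j.injective (by rw [hpre, map_one, map_one])
      map_mul' := fun a b => j.injective (by rw [hpre, map_mul j, hpre, hpre, map_mul])
      map_zero' := j.injective (by rw [hpre, map_zero, map_zero])
      map_add' := fun a b => j.injective (by rw [hpre, map_add j, hpre, hpre, map_add]) }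
  have he : ∀ a, ιF (e (redMap φ a)) = ιA a := fun a => by
    have : e (redMap φ a) = algebraMap _ _ a :=
      j.injective ((hpre _).trans (Eq.symm (IsFractionRing.lift_algebraMap (K := FractionRing (CAlg2.red A))
        (g := (algebraMap (CAlg2.red C) L).comp (redMap φ)) ((IsFractionRing.injective (CAlg2.red C) L).comp hred) a)))
    rw [this]
    exact IsFractionRing.lift_algebraMap _ a
  have hmem : ∀ c, ∃ d : D, algebraMap D K d = ιF (e c) := fun c => by
    refine IsIntegrallyClosed.isIntegral_iff.1 ?_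
    obtain ⟨p, hp, hc⟩ := Algebra.IsIntegral.isIntegral (R := CAlg2.red A) c
    refine ⟨p.map (algebraMap (CAlg2.red A) D), hp.map _, ?_⟩
    rw [Polynomial.eval₂_map, show (algebraMap D K).comp (algebraMap (CAlg2.red A) D) =
      (ιF.comp e).comp (redMap φ) from RingHom.ext fun a => (he a).symm, ← RingHom.comp_apply ιF e,
      ← Polynomial.hom_eval₂, show redMap φ = algebraMap (CAlg2.red A) (CAlg2.red C) from rfl, hc, map_zero]
  choose g hg using hmem
  let γ : CAlg2.red C →+* D :=
    { toFun := g
      map_one' := IsFractionRing.injective D K (by rw [hg, map_one, map_one, map_one])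
      map_mul' := fun a b => IsFractionRing.injective D K (by rw [hg, map_mul (algebraMap D K), hg, hg, map_mul, map_mul])
      map_zero' := IsFractionRing.injective D K (by rw [hg, map_zero, map_zero, map_zero])
      map_add' := fun a b => IsFractionRing.injective D K (by rw [hg, map_add (algebraMap D K), hg, hg, map_add, map_add]) }
  have hγA : ∀ a, γ (redMap φ a) = algebraMap (CAlg2.red A) D a := fun a =>
    IsFractionRing.injective D K ((hg _).trans (he a))
  have hγinj : Function.Injective γ := fun a b h => by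
    have h1 : ιF (e a) = ιF (e b) := (hg a).symm.trans ((congrArg _ h).trans (hg b))
    exact IsFractionRing.injective (CAlg2.red C) L ((hpre a).symm.trans ((congrArg j (ιF.injective h1)).trans (hpre b)))
  letI : Algebra (CAlg2.red C) D := γ.toAlgebra
  haveI : IsScalarTower (CAlg2.red A) (CAlg2.red C) D := IsScalarTower.of_algebraMap_eq fun a => (hγA a).symm
  haveI := hint
  haveI : Algebra.IsIntegral (CAlg2.red C) D := Algebra.IsIntegral.tower_top (R := CAlg2.red A)
  -- the extension is local
  have hmax : ∀ m : Ideal (CAlg2.red C), m.IsMaximal → m = (maximalIdeal D).comap γ := fun m hm => by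
    obtain ⟨M, hMp, hM⟩ := Ideal.exists_ideal_over_prime_of_isIntegral_of_isDomain (S := D) m (by
      rw [show RingHom.ker (algebraMap (CAlg2.red C) D) = ⊥ from (RingHom.injective_iff_ker_eq_bot _).1 hγinj]
      exact bot_le)
    rw [← hM]
    show M.comap γ = _
    haveI : (M.comap (algebraMap (CAlg2.red C) D)).IsMaximal := hM ▸ hm
    rw [IsLocalRing.eq_maximalIdeal (Ideal.isMaximal_of_isIntegral_of_isMaximal_comap (R := CAlg2.red C) M ‹_›)]
  haveI : Nontrivial C := ⟨1, 0, fun h => hQ.1.1.ne_top ((Ideal.eq_top_iff_one _).2 (h ▸ Q.zero_mem))⟩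
  have hlocal : IsLocalRing C := by
    haveI : IsLocalRing (CAlg2.red C) := IsLocalRing.of_unique_max_ideal
      ⟨(maximalIdeal D).comap γ, Ideal.isMaximal_comap_of_isIntegral_of_isMaximal (R := CAlg2.red C) (maximalIdeal D),
        fun m hm => hmax m hm⟩
    refine IsLocalRing.of_unique_max_ideal ⟨(maximalIdeal (CAlg2.red C)).comap (Ideal.Quotient.mk (nilradical C)),
      Ideal.comap_isMaximal_of_surjective _ Ideal.Quotient.mk_surjective, fun m hm => ?_⟩
    have hle : nilradical C ≤ m := nilradical_le_prime m (H := hm.isPrime)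
    have hker : RingHom.ker (Ideal.Quotient.mk (nilradical C)) ≤ m := by rw [Ideal.mk_ker]; exact hle
    haveI := hm
    rw [← IsLocalRing.eq_maximalIdeal (Ideal.IsMaximal.map_of_surjective_of_ker_le
      Ideal.Quotient.mk_surjective hker),
      Ideal.comap_map_of_surjective _ Ideal.Quotient.mk_surjective, ← RingHom.ker_eq_comap_bot, Ideal.mk_ker,
      sup_eq_left.2 hle]
  haveI := hlocal
  refine ⟨fun Ω _ _ u v huv hu => ?_, hlocal, UnivOpen.GU.isGeomUnibranch ⟨hdomC,
    IsLocalRing.of_surjective' _ Ideal.Quotient.mk_surjective, D, inferInstance, inferInstance, inferInstance,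
    inferInstance, hn, hγinj, inferInstance, fun d => ?_, fun d => ?_⟩⟩
  · -- radicial
    have hext : ∀ w : C →+* Ω, RingHom.ker (w.comp φ) = maximalIdeal A → ∃ ψ : D →+* Ω,
        (∀ c, ψ (γ (Ideal.Quotient.mk _ c)) = w c) ∧ maximalIdeal D ≤ RingHom.ker ψ := fun w hw => by
      let wbar : CAlg2.red C →+* Ω := Ideal.Quotient.lift (nilradical C) w fun c hc =>
        ((mem_nilradical.1 hc).map w).eq_zero
      haveI : (RingHom.ker wbar).IsPrime := RingHom.ker_isPrime _
      obtain ⟨M, hMp, hM⟩ := Ideal.exists_ideal_over_prime_of_isIntegral_of_isDomain (S := D) (RingHom.ker wbar) (by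
        rw [show RingHom.ker (algebraMap (CAlg2.red C) D) = ⊥ from (RingHom.injective_iff_ker_eq_bot _).1 hγinj]
        exact bot_le)
      obtain ⟨ψ, hψ, hψker⟩ := UnivOpen.exists_lift_of_integral wbar M hM
      refine ⟨ψ, fun c => hψ _, ?_⟩
      have hMA : M.comap ((algebraMap (CAlg2.red A) D).comp (Ideal.Quotient.mk (nilradical A))) = maximalIdeal A := by
        rw [← hw]
        ext a
        rw [Ideal.mem_comap, ← hψker, RingHom.mem_ker, RingHom.mem_ker, RingHom.comp_apply, RingHom.comp_apply,
          ← hγA]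
        exact Iff.of_eq (congrArg (· = 0) (hψ (Ideal.Quotient.mk _ (φ a))))
      have hMA' : (M.comap (algebraMap (CAlg2.red A) D)).IsMaximal := by
        have h1 := hMA
        rw [← Ideal.comap_comap] at h1
        have := Ideal.IsMaximal.map_of_surjective_of_ker_le (f := Ideal.Quotient.mk (nilradical A))
          (m := maximalIdeal A) Ideal.Quotient.mk_surjective (by
            rw [Ideal.mk_ker]; exact nilradical_le_prime _ (H := (maximalIdeal.isMaximal A).isPrime))
        rwa [← h1, Ideal.map_comap_of_surjective _ Ideal.Quotient.mk_surjective] at this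
      rw [hψker, IsLocalRing.eq_maximalIdeal (Ideal.isMaximal_of_isIntegral_of_isMaximal_comap
        (R := CAlg2.red A) M hMA')]
    obtain ⟨ψu, hψu, hku⟩ := hext u hu
    obtain ⟨ψv, hψv, hkv⟩ := hext v (huv ▸ hu)
    have hD : ψu = ψv := UnivOpen.eq_of_agree_of_purelyInseparable hins ψu ψv hku hkv fun a => by
      obtain ⟨a, rfl⟩ := Ideal.Quotient.mk_surjective a
      rw [← hγA]
      exact ((hψu (φ a)).trans (RingHom.congr_fun huv a)).trans (hψv (φ a)).symm
    exact RingHom.ext fun c => by rw [← hψu, ← hψv, hD]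
  · obtain ⟨k, a, ha⟩ := hins d
    exact ⟨k, redMap φ a, by rw [show algebraMap (CAlg2.red C) D (redMap φ a) = algebraMap (CAlg2.red A) D a from hγA a]; exact ha⟩
  · obtain ⟨a, s, hs, h⟩ := hbir d
    refine ⟨redMap φ a, redMap φ s, (map_ne_zero_iff _ hred).2 hs, ?_⟩
    show γ (redMap φ s) * d = γ (redMap φ a)
    rw [hγA, hγA]; exact h

/-- Conversely, a radicial extension with geometrically unibranch source descends the property. -/
theorem isGeomUnibranch_of_radicial [IsLocalRing C] {φ : A →+* C} (hb : Bir φ) (hr : Radicial φ)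
    (hC : CAlg2.IsGeomUnibranch C) : CAlg2.IsGeomUnibranch A := by
  obtain ⟨hdomC, hlocC, D, _, _, _, _, hn, hinj, hint, hins, hbir⟩ := UnivOpen.GU.of_isGeomUnibranch hC
  haveI := hdomC
  haveI := hlocC
  obtain ⟨hQ, hQu⟩ := nilradical_mem_minimalPrimes hdomC
  obtain ⟨hnil, hdomA⟩ := isDomain_red_of_unique (hb.minimal _ hQ) fun P hP => by
    obtain ⟨Q, hQ', rfl⟩ := hb.surj P hP
    rw [hQu Q hQ']
  haveI := hdomA
  haveI : IsLocalRing (CAlg2.red A) := IsLocalRing.of_surjective' _ Ideal.Quotient.mk_surjective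
  have hred : Function.Injective (redMap φ) := injective_redMap hnil.symm
  have hint1 := isIntegral_redMap hb.integral
  letI : Algebra (CAlg2.red A) D := ((algebraMap (CAlg2.red C) D).comp (redMap φ)).toAlgebra
  haveI := hint
  refine UnivOpen.GU.isGeomUnibranch ⟨hdomA, inferInstance, D, inferInstance, inferInstance, inferInstance,
    inferInstance, hn, hinj.comp hred, ⟨RingHom.IsIntegral.trans (redMap φ) (algebraMap (CAlg2.red C) D) hint1 hint.isIntegral⟩,
    fun d => ?_, fun d => ?_⟩
  · -- residue fields: purely inseparable in two steps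
    have hmC : (maximalIdeal C).comap φ = maximalIdeal A := by
      letI := φ.toAlgebra
      haveI : Algebra.IsIntegral A C := ⟨hb.integral⟩
      exact IsLocalRing.eq_maximalIdeal (Ideal.isMaximal_comap_of_isIntegral_of_isMaximal (R := A) (maximalIdeal C))
    let k := ResidueField A
    let l := ResidueField C
    let ρ : k →+* l := Ideal.Quotient.lift _ ((residue C).comp φ) fun a ha => by
      rw [← hmC] at ha
      exact Ideal.Quotient.eq_zero_iff_mem.2 ha
    letI : Algebra k l := ρ.toAlgebra
    haveI : Algebra.IsIntegral k l := ⟨fun x => by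
      obtain ⟨c, rfl⟩ := IsLocalRing.residue_surjective x
      obtain ⟨p, hp, hc⟩ := hb.integral c
      refine ⟨p.map (residue A), hp.map _, ?_⟩
      rw [Polynomial.eval₂_map, show (algebraMap k l).comp (residue A) = (residue C).comp φ from rfl,
        ← Polynomial.hom_eval₂, hc, map_zero]⟩
    haveI : Algebra.IsAlgebraic k l := Algebra.IsIntegral.isAlgebraic
    haveI : IsPurelyInseparable k l := by
      rw [isPurelyInseparable_iff_subsingleton_emb]
      refine ⟨fun σ τ => AlgHom.coe_ringHom_injective (RingHom.cancel_right residue_surjective |>.1 ?_)⟩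
      refine hr (AlgebraicClosure l) _ _ ?_ ?_
      · ext a
        exact (σ.commutes (residue A a)).trans (τ.commutes (residue A a)).symm
      · have : (σ.toRingHom.comp (residue C)).comp φ = (algebraMap k (AlgebraicClosure l)).comp (residue A) :=
          RingHom.ext fun a => σ.commutes (residue A a)
        refine (congrArg RingHom.ker this).trans ?_
        rw [← RingHom.comap_ker, (RingHom.injective_iff_ker_eq_bot _).1 (algebraMap k (AlgebraicClosure l)).injective]
        exact Ideal.mk_ker
    obtain ⟨i, c, hc⟩ := hins d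
    obtain ⟨c, rfl⟩ := Ideal.Quotient.mk_surjective c
    let E := ResidueField D
    let q := ringExpChar E
    haveI : ExpChar E q := ringExpChar.expChar E
    have hmD : ∀ c ∈ maximalIdeal C, algebraMap (CAlg2.red C) D (Ideal.Quotient.mk _ c) ∈ maximalIdeal D := by
      intro c hc
      have h1 : (maximalIdeal D).comap (algebraMap (CAlg2.red C) D) = maximalIdeal (CAlg2.red C) :=
        IsLocalRing.eq_maximalIdeal (Ideal.isMaximal_comap_of_isIntegral_of_isMaximal (R := CAlg2.red C) _)
      rw [← Ideal.mem_comap, h1]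
      haveI : IsLocalHom (Ideal.Quotient.mk (nilradical C)) := IsLocalHom.of_surjective _ Ideal.Quotient.mk_surjective
      exact fun hu => hc (isUnit_of_map_unit (Ideal.Quotient.mk (nilradical C)) c hu)
    let χ : l →+* E := Ideal.Quotient.lift _ ((residue D).comp
      ((algebraMap (CAlg2.red C) D).comp (Ideal.Quotient.mk (nilradical C)))) fun c hc =>
        Ideal.Quotient.eq_zero_iff_mem.2 (hmD c hc)
    haveI : ExpChar k q := (χ.comp (algebraMap k l)).expChar (χ.comp (algebraMap k l)).injective q
    obtain ⟨n, y, hy⟩ := IsPurelyInseparable.pow_mem k q (residue C c)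
    obtain ⟨a, rfl⟩ := IsLocalRing.residue_surjective y
    refine ⟨i + n, Ideal.Quotient.mk _ a, ?_⟩
    show d ^ q ^ (i + n) - algebraMap (CAlg2.red C) D (Ideal.Quotient.mk _ (φ a)) ∈ maximalIdeal D
    refine (Ideal.Quotient.eq).1 ?_
    show residue D (d ^ q ^ (i + n)) = χ (residue C (φ a))
    have hc' : residue D (d ^ q ^ i) = χ (residue C c) := Ideal.Quotient.eq.2 hc
    rw [show χ (residue C (φ a)) = χ (algebraMap k l (residue A a)) from rfl, hy, map_pow χ, ← hc',
      pow_add, pow_mul, map_pow]
  · obtain ⟨ca, cs, hs, h⟩ := hbir d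
    have hfr : ∀ c : CAlg2.red C, ∃ a s : CAlg2.red A, s ≠ 0 ∧ redMap φ s * c = redMap φ a := fun c => by
      obtain ⟨c, rfl⟩ := Ideal.Quotient.mk_surjective c
      obtain ⟨a, s, hs, hsc⟩ := hb.frac _ hQ c
      refine ⟨Ideal.Quotient.mk _ a, Ideal.Quotient.mk _ s, fun h0 => hs ?_, ?_⟩
      · exact nilradical_le_comap φ (Ideal.Quotient.eq_zero_iff_mem.1 h0)
      · show Ideal.Quotient.mk _ (φ s) * Ideal.Quotient.mk _ c = Ideal.Quotient.mk _ (φ a)
        rw [← map_mul, Ideal.Quotient.eq]
        exact hsc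
    obtain ⟨a₁, s₁, hs₁, h₁⟩ := hfr ca
    obtain ⟨a₂, s₂, hs₂, h₂⟩ := hfr cs
    have hcs : redMap φ a₂ ≠ 0 := h₂ ▸ mul_ne_zero ((map_ne_zero_iff _ hred).2 hs₂) hs
    refine ⟨a₁ * s₂, s₁ * a₂, mul_ne_zero hs₁ fun h0 => hcs (by rw [h0, map_zero]), ?_⟩
    show algebraMap (CAlg2.red C) D (redMap φ (s₁ * a₂)) * d = algebraMap (CAlg2.red C) D (redMap φ (a₁ * s₂))
    rw [map_mul (redMap φ), map_mul (redMap φ), ← h₁, ← h₂, map_mul, map_mul, map_mul, map_mul, mul_assoc, mul_assoc, h]
    ring

end Groth.Agent.RadBir5
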