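import Groth.Agent.RadBir5.Points
import Groth.Agent.RadBir5.Unibranch
import Groth.Agent.RadPtLib.Basic
import Groth.Agent.UnivOpen.AffineSpaceUnibranch

/-!
# Geometrically unibranch points and birational integral morphisms
-/

set_option autoImplicit false
set_option linter.style.haveILetI false
set_option backward.isDefEq.respectTransparency false
set_option backward.isDefEq.respectTransparency.types false

universe u

open CategoryTheory CategoryTheory.Limits AlgebraicGeometry TopologicalSpace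

namespace Groth.Agent.RadBir5

/-- Radicial at `y`: lifts with values in algebraically closed fields are unique. -/
theorem isRadicialAt_iff_lifts {X Y : Scheme.{u}} (f : X ⟶ Y) (y : Y) :
    RadPt.IsRadicialAt f y ↔ ∀ (E : Type u) [Field E] [IsAlgClosed E] (α β : Spec (CommRingCat.of E) ⟶ X),
      α ≫ f = β ≫ f → (α ≫ f) (IsLocalRing.closedPoint E) = y → α = β := by
  rw [RadPtLib.isRadicialAt_iff]
  constructor
  · intro h E _ _ α β hαβ hy
    obtain ⟨φ, hφ⟩ := exists_eq (α ≫ f) hy
    let a : Spec (CommRingCat.of E) ⟶ f.fiber y := pullback.lift α (Spec.map φ) hφ.symm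
    let b : Spec (CommRingCat.of E) ⟶ f.fiber y := pullback.lift β (Spec.map φ) (hαβ.symm.trans hφ.symm)
    have hab : a = b := by
      have hK := ((tfae_universallyInjective (f.fiberToSpecResidueField y)).out 0 1).1 h
      refine hK E ?_
      show a ≫ pullback.snd f _ = b ≫ pullback.snd f _
      rw [pullback.lift_snd, pullback.lift_snd]
    simpa [a, b] using congrArg (· ≫ pullback.fst f (Y.fromSpecResidueField y)) hab
  · intro h
    rw [UniversallyInjective.iff_diagonal]
    refine ⟨fun z => ?_⟩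
    let t := f.fiberToSpecResidueField y
    let E := AlgebraicClosure ((pullback t t).residueField z)
    let γ : Spec (CommRingCat.of E) ⟶ pullback t t :=
      Spec.map (CommRingCat.ofHom (algebraMap ((pullback t t).residueField z) E)) ≫ (pullback t t).fromSpecResidueField z
    let α := γ ≫ pullback.fst t t
    let β := γ ≫ pullback.snd t t
    have hαβ : α = β := by
      have hsnd : α ≫ t = β ≫ t := by simp only [α, β, Category.assoc, pullback.condition]
      have hfac : f.fiberι y ≫ f = t ≫ Y.fromSpecResidueField y := f.fiber_fac y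
      refine pullback.hom_ext ?_ hsnd
      refine h E (α ≫ f.fiberι y) (β ≫ f.fiberι y) ?_ ?_
      · show (α ≫ f.fiberι y) ≫ f = (β ≫ f.fiberι y) ≫ f
        have h1 := congrArg (· ≫ Y.fromSpecResidueField y) hsnd
        simp only [Category.assoc] at h1
        simp only [Category.assoc, hfac]
        exact h1
      · rw [Category.assoc, hfac, ← Category.assoc]
        exact Scheme.fromSpecResidueField_apply y _
    have hγ : γ = α ≫ pullback.diagonal t := by
      apply pullback.hom_ext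
      · simp [α]
      · simp only [Category.assoc, pullback.diagonal_snd, Category.comp_id]
        exact hαβ.symm
    refine ⟨α (IsLocalRing.closedPoint E : PrimeSpectrum E), ?_⟩
    rw [← Scheme.Hom.comp_apply, ← hγ, Scheme.Hom.comp_apply]
    exact Scheme.fromSpecResidueField_apply z _

section

variable {X Y : Scheme.{u}} (f : X ⟶ Y) [IsIntegralHom f]

set_option maxHeartbeats 2000000 in
/-- EGA 0_IV 23: geometric unibranchness at a point and birational integral morphisms. -/
theorem isGeomUnibranch_iff (hf : RadPt.IsBirational f) (y : Y) :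
    CAlg2.IsGeomUnibranch (Y.presheaf.stalk y) ↔
      (RadPt.IsRadicialAt f y ∧ ∀ x : X, f x = y → CAlg2.IsGeomUnibranch (X.presheaf.stalk x)) := by
  classical
  obtain ⟨V, hV, hyV, -⟩ := exists_isAffineOpen_mem_and_subset (x := y) (U := ⊤) trivial
  have hU : IsAffineOpen (f ⁻¹ᵁ V) := hV.preimage f
  letI : Algebra Γ(Y, V) Γ(X, f ⁻¹ᵁ V) := (f.app V).hom.toAlgebra
  haveI : Algebra.IsIntegral Γ(Y, V) Γ(X, f ⁻¹ᵁ V) := ⟨IsIntegralHom.isIntegral_app f V hV⟩
  let p := (hV.primeIdealOf ⟨y, hyV⟩).asIdeal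
  let A := Localization.AtPrime p
  let M := Algebra.algebraMapSubmonoid Γ(X, f ⁻¹ᵁ V) p.primeCompl
  let C := Localization M
  let φ : A →+* C := algebraMap A C
  let jA : Spec (CommRingCat.of A) ⟶ Y := Spec.map (CommRingCat.ofHom (algebraMap Γ(Y, V) A)) ≫ hV.fromSpec
  let jC : Spec (CommRingCat.of C) ⟶ X := Spec.map (CommRingCat.ofHom (algebraMap Γ(X, f ⁻¹ᵁ V) C)) ≫ hU.fromSpec
  have htow : ∀ r, φ (algebraMap Γ(Y, V) A r) = algebraMap _ C ((f.app V).hom r) := fun r => by
    show algebraMap A C (algebraMap Γ(Y, V) A r) = _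
    rw [← IsScalarTower.algebraMap_apply Γ(Y, V) A C]
    rfl
  have hcomm : jC ≫ f = Spec.map (CommRingCat.ofHom φ) ≫ jA := by
    simp only [jC, jA, Category.assoc]
    rw [← hV.SpecMap_appLE_fromSpec f hU le_rfl, ← Spec.map_comp_assoc, ← Spec.map_comp_assoc,
      ← Scheme.Hom.app_eq_appLE]
    congr 2
    ext r
    exact (htow r).symm
  have hint : φ.IsIntegral := by
    show (algebraMap A C).IsIntegral
    rw [localizationAlgebraMap_def (M := p.primeCompl) (S := Γ(X, f ⁻¹ᵁ V)) A C]
    exact isIntegral_localization (R := Γ(Y, V)) (S := Γ(X, f ⁻¹ᵁ V)) (M := p.primeCompl)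
  haveI : Algebra.IsIntegral A C := ⟨hint⟩
  -- the two charts are embeddings with ranges stable under generization
  have hjAe : Topology.IsEmbedding jA :=
    hV.isOpenImmersion_fromSpec.base_open.isEmbedding.comp
      (PrimeSpectrum.localization_comap_isEmbedding A p.primeCompl)
  have hjCe : Topology.IsEmbedding jC :=
    hU.isOpenImmersion_fromSpec.base_open.isEmbedding.comp
      (PrimeSpectrum.localization_comap_isEmbedding C M)
  have hp : hV.fromSpec (hV.primeIdealOf ⟨y, hyV⟩) = y := hV.fromSpec_primeIdealOf ⟨y, hyV⟩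
  have hrangeA : ∀ y', y' ⤳ y ↔ y' ∈ Set.range jA := fun y' => by
    constructor
    · intro h
      obtain ⟨Q, rfl⟩ : y' ∈ Set.range hV.fromSpec := by
        rw [hV.range_fromSpec]; exact h.mem_open V.2 hyV
      let Q' : PrimeSpectrum Γ(Y, V) := Q
      have hle : Q'.asIdeal ≤ p := (PrimeSpectrum.le_iff_specializes Q' (hV.primeIdealOf ⟨y, hyV⟩)).2
        (hV.isOpenImmersion_fromSpec.base_open.isInducing.specializes_iff.1 (hp.symm ▸ h))
      obtain ⟨R, hR⟩ : Q' ∈ Set.range (PrimeSpectrum.comap (algebraMap Γ(Y, V) A)) := by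
        rw [PrimeSpectrum.localization_comap_range A p.primeCompl]
        exact Set.disjoint_left.2 fun r hr hrQ => hr (hle hrQ)
      exact ⟨R, congrArg hV.fromSpec hR⟩
    · rintro ⟨R, rfl⟩
      let R' : PrimeSpectrum A := R
      refine Specializes.trans ?_ (specializes_of_eq hp)
      refine ((PrimeSpectrum.le_iff_specializes (PrimeSpectrum.comap (algebraMap Γ(Y, V) A) R')
        (hV.primeIdealOf ⟨y, hyV⟩)).1 fun r hr => ?_).map hV.fromSpec.continuous
      by_contra hrp
      exact R'.isPrime.ne_top (Ideal.eq_top_of_isUnit_mem _ hr (IsLocalization.map_units A (⟨r, hrp⟩ : p.primeCompl)))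
  have hrangeC : ∀ x, f x ⤳ y ↔ x ∈ Set.range jC := fun x => by
    constructor
    · intro h
      obtain ⟨Q, rfl⟩ : x ∈ Set.range hU.fromSpec := by
        rw [hU.range_fromSpec]; exact h.mem_open V.2 hyV
      let Q' : PrimeSpectrum Γ(X, f ⁻¹ᵁ V) := Q
      have hfQ : f (hU.fromSpec Q) = hV.fromSpec (PrimeSpectrum.comap (f.app V).hom Q') := by
        show (hU.fromSpec ≫ f) Q = _
        rw [← hV.SpecMap_appLE_fromSpec f hU le_rfl, ← Scheme.Hom.app_eq_appLE]
        rfl
      have hle : (PrimeSpectrum.comap (f.app V).hom Q').asIdeal ≤ p :=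
        (PrimeSpectrum.le_iff_specializes (PrimeSpectrum.comap (f.app V).hom Q') (hV.primeIdealOf ⟨y, hyV⟩)).2
          (hV.isOpenImmersion_fromSpec.base_open.isInducing.specializes_iff.1 (hp.symm ▸ hfQ ▸ h))
      obtain ⟨R, hR⟩ : Q' ∈ Set.range (PrimeSpectrum.comap (algebraMap Γ(X, f ⁻¹ᵁ V) C)) := by
        rw [PrimeSpectrum.localization_comap_range C M]
        refine Set.disjoint_left.2 ?_
        rintro _ ⟨r, hr, rfl⟩ hrQ
        exact hr (hle hrQ)
      exact ⟨R, congrArg hU.fromSpec hR⟩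
    · rintro ⟨R, rfl⟩
      rw [← Scheme.Hom.comp_apply, hcomm, Scheme.Hom.comp_apply]
      exact (hrangeA _).2 ⟨_, rfl⟩
  have hfj : ∀ Q : PrimeSpectrum C, f (jC Q) = jA (PrimeSpectrum.comap φ Q) := fun Q => by
    show (jC ≫ f) Q = _
    rw [hcomm]; rfl
  have hclosed : jA (IsLocalRing.closedPoint A) = y := by
    refine (congrArg hV.fromSpec ?_).trans hp
    exact PrimeSpectrum.ext (IsLocalization.AtPrime.comap_maximalIdeal A p)
  -- minimal primes are generic points
  have hminA : ∀ P : PrimeSpectrum A, P.asIdeal ∈ minimalPrimes A ↔ jA P ∈ genericPoints (Y : Type u) := fun P => by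
    rw [mem_genericPoints_iff]
    constructor
    · intro h w hw
      obtain ⟨R, rfl⟩ := (hrangeA w).1 (hw.trans ((hrangeA _).2 ⟨P, rfl⟩))
      let R' : PrimeSpectrum A := R
      have hle : R'.asIdeal ≤ P.asIdeal :=
        (PrimeSpectrum.le_iff_specializes R' P).2 (hjAe.isInducing.specializes_iff.1 hw)
      exact congrArg jA (show R' = P from PrimeSpectrum.ext (le_antisymm hle (h.2 ⟨R'.2, bot_le⟩ hle)))
    · intro h
      refine ⟨⟨P.2, bot_le⟩, fun R hR hle => ?_⟩
      have := hjAe.injective (h (jA (⟨R, hR.1⟩ : PrimeSpectrum A))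
        (((PrimeSpectrum.le_iff_specializes (⟨R, hR.1⟩ : PrimeSpectrum A) P).1 hle).map jA.continuous))
      exact (congrArg PrimeSpectrum.asIdeal this).ge
  have hminC : ∀ Q : PrimeSpectrum C, Q.asIdeal ∈ minimalPrimes C ↔ jC Q ∈ genericPoints (X : Type u) := fun Q => by
    rw [mem_genericPoints_iff]
    constructor
    · intro h w hw
      obtain ⟨R, rfl⟩ := (hrangeC w).1 ((hw.map f.continuous).trans ((hrangeC _).2 ⟨Q, rfl⟩))
      let R' : PrimeSpectrum C := R
      have hle : R'.asIdeal ≤ Q.asIdeal :=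
        (PrimeSpectrum.le_iff_specializes R' Q).2 (hjCe.isInducing.specializes_iff.1 hw)
      exact congrArg jC (show R' = Q from PrimeSpectrum.ext (le_antisymm hle (h.2 ⟨R'.2, bot_le⟩ hle)))
    · intro h
      refine ⟨⟨Q.2, bot_le⟩, fun R hR hle => ?_⟩
      have := hjCe.injective (h (jC (⟨R, hR.1⟩ : PrimeSpectrum C))
        (((PrimeSpectrum.le_iff_specializes (⟨R, hR.1⟩ : PrimeSpectrum C) Q).1 hle).map jC.continuous))
      exact (congrArg PrimeSpectrum.asIdeal this).ge
  -- field valued points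
  have hptA : ∀ {K : Type u} [Field K] (g : A →+* K) (z : Spec (CommRingCat.of K)),
      (Spec.map (CommRingCat.ofHom g) ≫ jA) z = jA (⟨RingHom.ker g, RingHom.ker_isPrime g⟩ : PrimeSpectrum A) := by
    intro K _ g z
    rw [Scheme.Hom.comp_apply]
    refine congrArg jA (PrimeSpectrum.ext ?_)
    show (z : PrimeSpectrum K).asIdeal.comap g = RingHom.ker g
    rw [(Ideal.eq_bot_or_top (z : PrimeSpectrum K).asIdeal).resolve_right (z : PrimeSpectrum K).isPrime.ne_top]
    rfl
  have hfactor : ∀ {K : Type u} [Field K] (l : Spec (CommRingCat.of K) ⟶ X),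
      f (l (IsLocalRing.closedPoint K)) ⤳ y → ∃ g : C →+* K, Spec.map (CommRingCat.ofHom g) ≫ jC = l := by
    intro K _ l hl
    obtain ⟨Q, hQ⟩ := (hrangeC _).1 hl
    have hr : Set.range l ⊆ Set.range hU.fromSpec := by
      rintro _ ⟨z, rfl⟩
      rw [show z = (IsLocalRing.closedPoint K : PrimeSpectrum K) from Subsingleton.elim _ _, ← hQ]
      exact ⟨_, rfl⟩
    obtain ⟨a, ha⟩ := Spec.map_surjective (IsOpenImmersion.lift hU.fromSpec l hr)
    have ha' : Spec.map a ≫ hU.fromSpec = l := by rw [ha, IsOpenImmersion.lift_fac]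
    have hunit : ∀ m : M, IsUnit (a.hom m) := by
      rintro ⟨_, r, hr', rfl⟩
      refine IsUnit.mk0 _ fun h0 => ?_
      have h1 : hU.fromSpec (Spec.map a (IsLocalRing.closedPoint K)) = jC Q := by
        rw [hQ, ← Scheme.Hom.comp_apply, ha']
      have h2 := hU.isOpenImmersion_fromSpec.base_open.injective h1
      have h3 : (f.app V).hom r ∈ (PrimeSpectrum.comap (algebraMap Γ(X, f ⁻¹ᵁ V) C) (Q : PrimeSpectrum C)).asIdeal := by
        rw [show PrimeSpectrum.comap (algebraMap Γ(X, f ⁻¹ᵁ V) C) (Q : PrimeSpectrum C) = _ from h2.symm]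
        show a.hom ((f.app V).hom r) ∈ IsLocalRing.maximalIdeal K
        rw [show a.hom ((f.app V).hom r) = 0 from h0]
        exact zero_mem _
      exact (Q : PrimeSpectrum C).isPrime.ne_top
        (Ideal.eq_top_of_isUnit_mem _ h3 (IsLocalization.map_units C (⟨_, r, hr', rfl⟩ : M)))
    refine ⟨IsLocalization.lift hunit, ?_⟩
    rw [← ha']
    simp only [jC]
    rw [← Spec.map_comp_assoc]
    congr 2
    ext b
    exact IsLocalization.lift_eq hunit b
  have hcancelA : ∀ {K : Type u} [CommRing K] (g g' : A →+* K),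
      Spec.map (CommRingCat.ofHom g) ≫ jA = Spec.map (CommRingCat.ofHom g') ≫ jA → g = g' := by
    intro K _ g g' h
    simp only [jA, ← Category.assoc, ← Spec.map_comp] at h
    exact IsLocalization.ringHom_ext p.primeCompl
      (congrArg CommRingCat.Hom.hom (Spec.map_injective ((cancel_mono hV.fromSpec).1 h)))
  have hcancelC : ∀ {K : Type u} [CommRing K] (g g' : C →+* K),
      Spec.map (CommRingCat.ofHom g) ≫ jC = Spec.map (CommRingCat.ofHom g') ≫ jC → g = g' := by
    intro K _ g g' h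
    simp only [jC, ← Category.assoc, ← Spec.map_comp] at h
    exact IsLocalization.ringHom_ext M
      (congrArg CommRingCat.Hom.hom (Spec.map_injective ((cancel_mono hU.fromSpec).1 h)))
  have hcompC : ∀ {K : Type u} [CommRing K] (g : C →+* K),
      (Spec.map (CommRingCat.ofHom g) ≫ jC) ≫ f = Spec.map (CommRingCat.ofHom (g.comp φ)) ≫ jA := by
    intro K _ g
    rw [Category.assoc, hcomm, ← Spec.map_comp_assoc]
    rfl
  have hgenY : ∀ P ∈ minimalPrimes A, ∀ h : P.IsPrime, jA (⟨P, h⟩ : PrimeSpectrum A) ∈ genericPoints (Y : Type u) :=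
    fun P hP h => (hminA ⟨P, h⟩).1 hP
  have hb : Bir φ := by
    have hminimal : ∀ Q ∈ minimalPrimes C, Q.comap φ ∈ minimalPrimes A := fun Q hQ => by
      have h := hf.1.mapsTo ((hminC ⟨Q, hQ.1.1⟩).1 hQ)
      rw [hfj] at h
      exact (hminA _).2 h
    have hinj : ∀ P ∈ minimalPrimes A, ∀ Q Q' : Ideal C, Q.IsPrime → Q'.IsPrime → Q.comap φ = P → Q'.comap φ = P →
        Q = Q' := fun P hP Q Q' hQ hQ' h h' => by
      have e : jC (⟨Q, hQ⟩ : PrimeSpectrum C) = jC (⟨Q', hQ'⟩ : PrimeSpectrum C) := by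
        refine (hf.2 _ (hgenY P hP hP.1.1)).1 _ _ ?_ ?_
        · rw [hfj]; exact congrArg jA (PrimeSpectrum.ext h)
        · rw [hfj]; exact congrArg jA (PrimeSpectrum.ext h')
      exact congrArg PrimeSpectrum.asIdeal (hjCe.injective e)
    refine ⟨hint, hminimal, fun P hP => ?_, hinj, fun Q hQ c => ?_⟩
    · obtain ⟨x, hx, hxy⟩ := hf.1.surjOn (hgenY P hP hP.1.1)
      obtain ⟨R, rfl⟩ := (hrangeC x).1 (hxy ▸ (hrangeA _).2 ⟨_, rfl⟩)
      rw [hfj] at hxy
      exact ⟨(R : PrimeSpectrum C).asIdeal, (hminC R).2 hx, congrArg PrimeSpectrum.asIdeal (hjAe.injective hxy)⟩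
    · let P := Q.comap φ
      haveI : P.IsPrime := Ideal.IsPrime.comap _ (hK := hQ.1.1)
      let K := FractionRing (A ⧸ P)
      let κ : A →+* K := (algebraMap (A ⧸ P) K).comp (Ideal.Quotient.mk P)
      have hκ : RingHom.ker κ = P := by
        rw [← RingHom.comap_ker, (RingHom.injective_iff_ker_eq_bot _).1 (IsFractionRing.injective (A ⧸ P) K)]
        exact Ideal.mk_ker
      let t : Spec (CommRingCat.of K) ⟶ Y := Spec.map (CommRingCat.ofHom κ) ≫ jA
      have ht : t (IsLocalRing.closedPoint K) = jA (⟨P, ‹_›⟩ : PrimeSpectrum A) :=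
        (hptA κ _).trans (congrArg jA (PrimeSpectrum.ext hκ))
      obtain ⟨l, hl, -⟩ := uniqueLift_of_isBirational hf (hgenY P (hminimal Q hQ) ‹_›) K t ht
      obtain ⟨g, rfl⟩ := hfactor l (by
        rw [show f (l (IsLocalRing.closedPoint K)) = (l ≫ f) (IsLocalRing.closedPoint K) from rfl, hl, ht]
        exact (hrangeA _).2 ⟨_, rfl⟩)
      have hgφ : g.comp φ = κ := hcancelA _ _ ((hcompC g).symm.trans hl)
      have hkg : RingHom.ker g = Q := hinj P (hminimal Q hQ) _ _ (RingHom.ker_isPrime g) hQ.1.1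
        (by rw [RingHom.comap_ker, hgφ, hκ]) rfl
      obtain ⟨a, s, hs, has⟩ := IsFractionRing.div_surjective (A := A ⧸ P) (g c)
      obtain ⟨a, rfl⟩ := Ideal.Quotient.mk_surjective a
      obtain ⟨s, rfl⟩ := Ideal.Quotient.mk_surjective s
      have hsK : κ s ≠ 0 := (map_ne_zero_iff _ (IsFractionRing.injective (A ⧸ P) K)).2 (nonZeroDivisors.ne_zero hs)
      refine ⟨a, s, fun h => hsK ?_, ?_⟩
      · rw [← hgφ]; exact RingHom.mem_ker.1 (hkg.ge h)
      · rw [← hkg, RingHom.mem_ker, map_sub, map_mul, ← RingHom.comp_apply g φ, ← RingHom.comp_apply g φ, hgφ,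
          ← has]
        show κ s * (κ a / κ s) - κ a = 0
        rw [mul_div_cancel₀ _ hsK, sub_self]
  have hrad : RadPt.IsRadicialAt f y ↔ Radicial φ := by
    rw [isRadicialAt_iff_lifts]
    constructor
    · intro h Ω _ _ u v huv hu
      refine hcancelC u v (h Ω _ _ ?_ ?_)
      · rw [hcompC, hcompC, huv]
      · rw [hcompC, hptA]
        exact (congrArg jA (PrimeSpectrum.ext hu)).trans hclosed
    · intro h E _ _ α β hαβ hy
      obtain ⟨u, rfl⟩ := hfactor α (by
        rw [show f (α (IsLocalRing.closedPoint E)) = (α ≫ f) (IsLocalRing.closedPoint E) from rfl, hy])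
      obtain ⟨v, rfl⟩ := hfactor β (by
        rw [show f (β (IsLocalRing.closedPoint E)) = (β ≫ f) (IsLocalRing.closedPoint E) from rfl, ← hαβ, hy])
      rw [hcompC, hcompC] at hαβ
      rw [hcompC, hptA] at hy
      have hu := congrArg PrimeSpectrum.asIdeal (hjAe.injective (hy.trans hclosed.symm))
      rw [h E u v (hcancelA _ _ hαβ) hu]
  have hA : CAlg2.IsGeomUnibranch (Y.presheaf.stalk y) ↔ CAlg2.IsGeomUnibranch A := by
    letI := Y.presheaf.algebra_section_stalk ⟨y, hyV⟩
    haveI := hV.isLocalization_stalk ⟨y, hyV⟩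
    exact ⟨UnivOpen.isGeomUnibranch_of_ringEquiv (IsLocalization.algEquiv p.primeCompl (Y.presheaf.stalk y) A).toRingEquiv,
      UnivOpen.isGeomUnibranch_of_ringEquiv (IsLocalization.algEquiv p.primeCompl A (Y.presheaf.stalk y)).toRingEquiv⟩
  have hover : ∀ (_ : IsLocalRing C) (x : X), f x = y →
      (CAlg2.IsGeomUnibranch (X.presheaf.stalk x) ↔ CAlg2.IsGeomUnibranch C) := by
    intro hC x hx
    obtain ⟨R, hR⟩ := (hrangeC x).1 (specializes_of_eq hx)
    let R' : PrimeSpectrum C := R
    have hRmax : R'.asIdeal = IsLocalRing.maximalIdeal C := by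
      have hA' : PrimeSpectrum.comap φ R' = IsLocalRing.closedPoint A :=
        hjAe.injective ((hfj R').symm.trans ((congrArg f hR).trans (hx.trans hclosed.symm)))
      have h1 : (R'.asIdeal.comap (algebraMap A C)).IsMaximal := by
        rw [show R'.asIdeal.comap (algebraMap A C) = IsLocalRing.maximalIdeal A from congrArg PrimeSpectrum.asIdeal hA']
        infer_instance
      exact IsLocalRing.eq_maximalIdeal (Ideal.isMaximal_of_isIntegral_of_isMaximal_comap (R := A) _ h1)
    have hxU : x ∈ f ⁻¹ᵁ V := by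
      show f x ∈ V
      rw [hx]; exact hyV
    have hq : (hU.primeIdealOf ⟨x, hxU⟩).asIdeal = R'.asIdeal.comap (algebraMap Γ(X, f ⁻¹ᵁ V) C) := by
      have h1 : hU.primeIdealOf ⟨x, hxU⟩ = PrimeSpectrum.comap (algebraMap Γ(X, f ⁻¹ᵁ V) C) R' :=
        hU.isOpenImmersion_fromSpec.base_open.injective ((hU.fromSpec_primeIdealOf ⟨x, hxU⟩).trans hR.symm)
      rw [h1]; rfl
    have hMq : M ≤ (hU.primeIdealOf ⟨x, hxU⟩).asIdeal.primeCompl := fun m hm hm' => by
      rw [hq, hRmax] at hm'
      exact hm' (IsLocalization.map_units C (⟨m, hm⟩ : M))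
    haveI : IsLocalization (hU.primeIdealOf ⟨x, hxU⟩).asIdeal.primeCompl C := by
      refine IsLocalization.of_le M _ hMq fun r hr => ?_
      by_contra hu
      refine hr ?_
      show r ∈ (hU.primeIdealOf ⟨x, hxU⟩).asIdeal
      rw [hq, hRmax]
      exact hu
    letI := X.presheaf.algebra_section_stalk ⟨x, hxU⟩
    haveI := hU.isLocalization_stalk ⟨x, hxU⟩
    let q := (hU.primeIdealOf ⟨x, hxU⟩).asIdeal.primeCompl
    exact ⟨UnivOpen.isGeomUnibranch_of_ringEquiv (IsLocalization.algEquiv q (X.presheaf.stalk x) C).toRingEquiv,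
      UnivOpen.isGeomUnibranch_of_ringEquiv (IsLocalization.algEquiv q C (X.presheaf.stalk x)).toRingEquiv⟩
  rw [hA, hrad]
  constructor
  · intro h
    obtain ⟨hr, hloc, hC⟩ := of_isGeomUnibranch hb h
    exact ⟨hr, fun x hx => (hover hloc x hx).2 hC⟩
  · rintro ⟨hr, hX⟩
    -- a point over `y`
    obtain ⟨Q₀, hQ₀, -⟩ := Ideal.exists_minimalPrimes_le (bot_le : (⊥ : Ideal A) ≤ IsLocalRing.maximalIdeal A)
    obtain ⟨Q, hQ, -⟩ := hb.surj Q₀ hQ₀
    haveI : Nontrivial C := ⟨1, 0, fun h => hQ.1.1.ne_top ((Ideal.eq_top_iff_one _).2 (h ▸ Q.zero_mem))⟩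
    obtain ⟨m, hm⟩ := Ideal.exists_maximal C
    haveI hloc : IsLocalRing C := by
      refine IsLocalRing.of_unique_max_ideal ⟨m, hm, fun m' hm' => ?_⟩
      have hmax : ∀ n : Ideal C, n.IsMaximal → n.comap φ = IsLocalRing.maximalIdeal A := fun n hn => by
        haveI := hn
        exact IsLocalRing.eq_maximalIdeal (Ideal.isMaximal_comap_of_isIntegral_of_isMaximal (R := A) n)
      have e := (hrad.2 hr).1 (jC (⟨m, hm.isPrime⟩ : PrimeSpectrum C))
        (jC (⟨m', hm'.isPrime⟩ : PrimeSpectrum C))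
        ((hfj _).trans ((congrArg jA (PrimeSpectrum.ext (hmax m hm))).trans hclosed))
        ((hfj _).trans ((congrArg jA (PrimeSpectrum.ext (hmax m' hm'))).trans hclosed))
      exact (congrArg PrimeSpectrum.asIdeal (hjCe.injective e)).symm
    refine isGeomUnibranch_of_radicial hb hr ?_
    have hx : f (jC (IsLocalRing.closedPoint C)) = y :=
      (hfj _).trans ((congrArg jA (PrimeSpectrum.ext (IsLocalRing.eq_maximalIdeal
        (Ideal.isMaximal_comap_of_isIntegral_of_isMaximal (R := A) (IsLocalRing.maximalIdeal C))))).trans hclosed)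
    exact (hover hloc _ hx).1 (hX _ hx)

/-- EGA 0_IV 23: the global form. -/
theorem forall_isGeomUnibranch_iff (hf : RadPt.IsBirational f) :
    (∀ y : Y, CAlg2.IsGeomUnibranch (Y.presheaf.stalk y)) ↔
      ((∀ x : X, CAlg2.IsGeomUnibranch (X.presheaf.stalk x)) ∧ UniversallyInjective f) := by
  have htfae := (tfae_universallyInjective f).out 0 2
  constructor
  · intro h
    refine ⟨fun x => ((isGeomUnibranch_iff f hf (f x)).1 (h _)).2 x rfl, htfae.2 ⟨fun x x' e => ?_, fun x => ?_⟩⟩
    · exact ((isGeomUnibranch_iff f hf (f x')).1 (h _)).1.1 x x' e rfl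
    · exact ((isGeomUnibranch_iff f hf (f x)).1 (h _)).1.2 x rfl
  · rintro ⟨hX, hi⟩ y
    obtain ⟨h1, h2⟩ := htfae.1 hi
    exact (isGeomUnibranch_iff f hf y).2 ⟨⟨fun x x' e e' => h1 (e.trans e'.symm), fun x _ => h2 x⟩, fun x _ => hX x⟩

end

end Groth.Agent.RadBir5
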