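import Groth.Prelude.Def_EGA4Misc
import Mathlib.AlgebraicGeometry.Morphisms.Flat
import Mathlib.AlgebraicGeometry.Morphisms.UniversallyOpen
import Mathlib.AlgebraicGeometry.Morphisms.Preimmersion
import Mathlib.AlgebraicGeometry.PullbackCarrier

/-!
# Field-valued points over a point with trivial fibre; birationality after flat base change
-/

set_option autoImplicit false
set_option linter.style.haveILetI false
set_option backward.isDefEq.respectTransparency false
set_option backward.isDefEq.respectTransparency.types false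

universe u

open CategoryTheory CategoryTheory.Limits AlgebraicGeometry TopologicalSpace

namespace Groth.Agent.RadBir5

variable {X Y : Scheme.{u}} (f : X ⟶ Y)

/-- Every field valued point at `y` lifts uniquely. -/
def UniqueLift (y : Y) : Prop :=
  ∀ (K : Type u) [Field K] (t : Spec (CommRingCat.of K) ⟶ Y), t (IsLocalRing.closedPoint K) = y →
    ∃! l : Spec (CommRingCat.of K) ⟶ X, l ≫ f = t

theorem exists_eq {K : Type u} [Field K] {Z : Scheme.{u}} (t : Spec (CommRingCat.of K) ⟶ Z) {z : Z}
    (hz : t (IsLocalRing.closedPoint K) = z) :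
    ∃ φ : Z.residueField z ⟶ CommRingCat.of K, Spec.map φ ≫ Z.fromSpecResidueField z = t := by
  obtain ⟨⟨z', φ⟩, rfl⟩ := (Scheme.SpecToEquivOfField K Z).symm.surjective t
  have h : z' = z := by
    rw [← hz]
    exact (Scheme.fromSpecResidueField_apply z' _).symm.trans (Scheme.Hom.comp_apply _ _ _).symm
  subst h
  exact ⟨φ, rfl⟩

theorem point_of_comp {K : Type u} [Field K] {Z : Scheme.{u}} {z : Z} (φ : Z.residueField z ⟶ CommRingCat.of K) :
    (Spec.map φ ≫ Z.fromSpecResidueField z) (IsLocalRing.closedPoint K) = z := by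
  rw [Scheme.Hom.comp_apply, Scheme.fromSpecResidueField_apply]

theorem uniqueLift_of_bijective {x : X} {y : Y} (hx : f x = y) (huniq : ∀ x', f x' = y → x' = x)
    (hbij : Function.Bijective (f.residueFieldMap x).hom) : UniqueLift f y := by
  subst hx
  haveI : IsIso (f.residueFieldMap x) := (ConcreteCategory.isIso_iff_bijective _).2 hbij
  intro K _ t ht
  obtain ⟨ψ, rfl⟩ := exists_eq t ht
  refine ⟨Spec.map (inv (f.residueFieldMap x) ≫ ψ) ≫ X.fromSpecResidueField x, ?_, fun l hl => ?_⟩
  · simp only [Category.assoc]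
    rw [← f.SpecMap_residueFieldMap_fromSpecResidueField, ← Spec.map_comp_assoc, IsIso.hom_inv_id_assoc]
  · obtain ⟨φ, rfl⟩ := exists_eq l (z := x) (huniq _ (by rw [← Scheme.Hom.comp_apply, hl, point_of_comp]))
    rw [Category.assoc, ← f.SpecMap_residueFieldMap_fromSpecResidueField, ← Spec.map_comp_assoc,
      cancel_mono] at hl
    rw [← Spec.map_injective hl, IsIso.inv_hom_id_assoc]

variable {f}

theorem UniqueLift.eq {y : Y} (h : UniqueLift f y) {x x' : X} (hx : f x = y) (hx' : f x' = y) : x = x' := by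
  obtain ⟨z, hz, hz'⟩ := Scheme.Pullback.exists_preimage_pullback (f := f) (g := f) x x' (hx.trans hx'.symm)
  let s := (pullback f f).fromSpecResidueField z
  let K : Type u := (pullback f f).residueField z
  have hs : ∀ p, s p = z := fun p => Scheme.fromSpecResidueField_apply z p
  obtain ⟨l, -, hl⟩ := h K (s ≫ pullback.fst f f ≫ f)
    ((congrArg (fun p => f (pullback.fst f f p)) (hs (IsLocalRing.closedPoint K))).trans ((congrArg f hz).trans hx))
  have h1 := hl (s ≫ pullback.fst f f) (Category.assoc _ _ _)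
  have h2 := hl (s ≫ pullback.snd f f) (by simp only [Category.assoc, pullback.condition])
  have := congrArg (fun m => m (IsLocalRing.closedPoint K)) (h1.trans h2.symm)
  exact ((congrArg (pullback.fst f f) (hs (IsLocalRing.closedPoint K))).trans hz).symm.trans
    (this.trans ((congrArg (pullback.snd f f) (hs (IsLocalRing.closedPoint K))).trans hz'))

theorem UniqueLift.exists_eq {y : Y} (h : UniqueLift f y) : ∃ x, f x = y := by
  obtain ⟨l, hl, -⟩ := h (Y.residueField y) (Y.fromSpecResidueField y) (Scheme.fromSpecResidueField_apply y _)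
  exact ⟨l (IsLocalRing.closedPoint (Y.residueField y)),
    (congrArg (fun m => m (IsLocalRing.closedPoint (Y.residueField y))) hl).trans (Scheme.fromSpecResidueField_apply y _)⟩

theorem UniqueLift.bijective {y : Y} (h : UniqueLift f y) {x : X} (hx : f x = y) :
    Function.Bijective (f.residueFieldMap x).hom := by
  subst hx
  refine ⟨(f.residueFieldMap x).hom.injective, ?_⟩
  obtain ⟨l, hl, -⟩ := h (Y.residueField (f x)) (Y.fromSpecResidueField (f x)) (Scheme.fromSpecResidueField_apply _ _)
  obtain ⟨φ, rfl⟩ := RadBir5.exists_eq l (z := x) (h.eq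
      ((congrArg (fun m => m (IsLocalRing.closedPoint (Y.residueField (f x)))) hl).trans
        (Scheme.fromSpecResidueField_apply _ _)) rfl)
  obtain ⟨l', -, hl'⟩ := h (X.residueField x) (Spec.map (f.residueFieldMap x) ≫ Y.fromSpecResidueField (f x))
    (point_of_comp _)
  have h1 := hl' (X.fromSpecResidueField x) (f.SpecMap_residueFieldMap_fromSpecResidueField x).symm
  have h2 := hl' (Spec.map (f.residueFieldMap x) ≫ Spec.map φ ≫ X.fromSpecResidueField x)
    ((Category.assoc _ _ _).trans (congrArg (Spec.map (f.residueFieldMap x) ≫ ·) hl))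
  have e : Spec.map (φ ≫ f.residueFieldMap x) = Spec.map (𝟙 _) := by
    rw [← cancel_mono (X.fromSpecResidueField x), Spec.map_comp, Category.assoc, Spec.map_id, Category.id_comp]
    exact h2.trans h1.symm
  intro a
  exact ⟨φ.hom a, congr($(Spec.map_injective e).hom a)⟩

theorem UniqueLift.of_isPullback {X' Y' : Scheme.{u}} {f' : X' ⟶ Y'} {g : Y' ⟶ Y} {g' : X' ⟶ X}
    (sq : IsPullback g' f' f g) {y' : Y'} (h : UniqueLift f (g y')) : UniqueLift f' y' := by
  intro K _ t ht
  obtain ⟨l, hl, huniq⟩ := h K (t ≫ g) (by rw [Scheme.Hom.comp_apply, ht])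
  refine ⟨sq.lift l t hl, sq.lift_snd _ _ _, fun m hm => sq.hom_ext ?_ ?_⟩
  · rw [sq.lift_fst]
    refine huniq _ ?_
    show (m ≫ g') ≫ f = t ≫ g
    rw [Category.assoc, sq.w, ← Category.assoc, hm]
  · rw [sq.lift_snd, hm]

theorem mem_genericPoints_iff {Z : Scheme.{u}} {z : Z} :
    z ∈ genericPoints (Z : Type u) ↔ ∀ w, w ⤳ z → w = z := by
  constructor
  · intro h w hw
    have h1 : closure {z} ⊆ closure {w} :=
      closure_minimal (Set.singleton_subset_iff.2 (specializes_iff_mem_closure.1 hw)) isClosed_closure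
    have h2 : closure {w} ⊆ closure {z} := h.2 isIrreducible_singleton.closure h1
    exact (hw.antisymm (specializes_iff_mem_closure.2 (h2 (subset_closure rfl)))).eq
  · intro h
    refine ⟨isIrreducible_singleton.closure, fun W hW hle => ?_⟩
    obtain ⟨w, hw⟩ := QuasiSober.sober hW.closure isClosed_closure
    have hzw : z ∈ closure {w} := hw.def.symm ▸ subset_closure (hle (subset_closure rfl))
    rw [← h w (specializes_iff_mem_closure.2 hzw), hw.def]
    exact subset_closure

theorem uniqueLift_of_isBirational (hf : RadPt.IsBirational f) {y : Y} (hy : y ∈ genericPoints (Y : Type u)) :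
    UniqueLift f y := by
  obtain ⟨x, -, hx⟩ := hf.1.surjOn hy
  exact uniqueLift_of_bijective f hx (fun x' hx' => (hf.2 y hy).1 x' x hx' hx) ((hf.2 y hy).2 x hx)

theorem uniqueLift_mem_range {X' Y' : Scheme.{u}} {f' : X' ⟶ Y'} {g : Y' ⟶ Y} {g' : X' ⟶ X}
    (sq : IsPullback g' f' f g) {x : X} {w : Y'} (hw : g w = f x) : ∃ x' : X', g' x' = x ∧ f' x' = w := by
  obtain ⟨z, hz1, hz2⟩ := Scheme.Pullback.exists_preimage_pullback (f := f) (g := g) x w hw.symm
  refine ⟨sq.isoPullback.inv z, ?_, ?_⟩
  · rw [← Scheme.Hom.comp_apply, sq.isoPullback_inv_fst, hz1]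
  · rw [← Scheme.Hom.comp_apply, sq.isoPullback_inv_snd, hz2]

/-- Birationality is preserved by flat base change. -/
theorem isBirational_of_isPullback {X' Y' : Scheme.{u}} {g : Y' ⟶ Y} [Flat g] {f' : X' ⟶ Y'} {g' : X' ⟶ X}
    (sq : IsPullback g' f' f g) (hf : RadPt.IsBirational f) : RadPt.IsBirational f' := by
  haveI : Flat g' := MorphismProperty.of_isPullback sq.flip inferInstance
  have hgen : ∀ y' ∈ genericPoints (Y' : Type u), g y' ∈ genericPoints (Y : Type u) := fun y' hy' => by
    rw [mem_genericPoints_iff] at hy' ⊢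
    intro b hb
    obtain ⟨b', hb', rfl⟩ := (Flat.generalizingMap g) hb
    rw [hy' b' hb']
  have hlift : ∀ y' ∈ genericPoints (Y' : Type u), UniqueLift f' y' := fun y' hy' =>
    (uniqueLift_of_isBirational hf (hgen y' hy')).of_isPullback sq
  have hmaps : Set.MapsTo f' (genericPoints (X' : Type u)) (genericPoints (Y' : Type u)) := by
    intro x' hx'
    rw [mem_genericPoints_iff] at hx' ⊢
    have hx : g' x' ∈ genericPoints (X : Type u) := mem_genericPoints_iff.2 fun b hb => by
      obtain ⟨b', hb', rfl⟩ := (Flat.generalizingMap g') hb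
      rw [hx' b' hb']
    have hy : f (g' x') ∈ genericPoints (Y : Type u) := hf.1.mapsTo hx
    have hgf : ∀ z, g (f' z) = f (g' z) := fun z => by rw [← Scheme.Hom.comp_apply, ← sq.w, Scheme.Hom.comp_apply]
    intro w hw
    have hwy : g w = f (g' x') := by
      refine mem_genericPoints_iff.1 hy _ ?_
      rw [← hgf]
      exact hw.map g.continuous
    -- lift `w` inside the fibre over the generic point
    let x₀ := g' x'
    let i := X.fromSpecResidueField x₀
    haveI : IsIso (f.residueFieldMap x₀) :=
      (ConcreteCategory.isIso_iff_bijective _).2 ((hf.2 _ hy).2 x₀ rfl)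
    have hi : i ≫ f = Spec.map (f.residueFieldMap x₀) ≫ Y.fromSpecResidueField (f x₀) :=
      (f.SpecMap_residueFieldMap_fromSpecResidueField x₀).symm
    let F := pullback g' i
    have sqF : IsPullback (pullback.fst g' i ≫ f') (pullback.snd g' i) g (i ≫ f) :=
      (IsPullback.of_hasPullback g' i).paste_horiz sq.flip
    haveI : IsPreimmersion (i ≫ f) := by rw [hi]; infer_instance
    haveI : IsPreimmersion (pullback.fst g' i ≫ f') := MorphismProperty.of_isPullback sqF.flip inferInstance
    have hrange : ∀ z, g' z = x₀ → ∃ v, pullback.fst g' i v = z := fun z hz => by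
      obtain ⟨v, hv, -⟩ := Scheme.Pullback.exists_preimage_pullback (f := g') (g := i) z
        (IsLocalRing.closedPoint (X.residueField x₀)) (hz.trans (Scheme.fromSpecResidueField_apply x₀ _).symm)
      exact ⟨v, hv⟩
    obtain ⟨v, hv⟩ := hrange x' rfl
    obtain ⟨z, hz, hzw⟩ := uniqueLift_mem_range sq hwy
    obtain ⟨v', rfl⟩ := hrange z hz
    have hsp : v' ⤳ v := by
      rw [← (pullback.fst g' i ≫ f').isEmbedding.isInducing.specializes_iff, Scheme.Hom.comp_apply,
        Scheme.Hom.comp_apply, hzw, hv]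
      exact hw
    have := hx' _ ((hsp.map (pullback.fst g' i).continuous).trans (specializes_of_eq hv))
    rw [← hzw, this]
  refine ⟨⟨hmaps, fun a ha b hb hab => (hlift _ (hmaps ha)).eq rfl hab.symm, fun y' hy' => ?_⟩,
    fun y' hy' => ⟨fun _ _ h h' => (hlift y' hy').eq h h', fun _ h => (hlift y' hy').bijective h⟩⟩
  obtain ⟨x', hx'⟩ := (hlift y' hy').exists_eq
  refine ⟨x', mem_genericPoints_iff.2 fun w hw => ?_, hx'⟩
  refine (hlift y' hy').eq ?_ hx'
  exact mem_genericPoints_iff.1 hy' _ (hx' ▸ hw.map f'.continuous)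

end Groth.Agent.RadBir5
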